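import Cfsg.Agent.Lib.MP.Pu3
import Cfsg.Agent.Lib.ST4.Cop
import Cfsg.Agent.Lib.Ess.SL2
import Cfsg.Agent.Lib.Rank2.Real2
import Cfsg.Agent.Lib.Trans.Zsig

/-!
Pushing up, part 4: involutions of `SL₂(2ⁿ)` on modules in characteristic two.
-/

set_option autoImplicit false
set_option linter.style.haveILetI false

namespace Cfsg.Agent.PU

open Subgroup Cfsg.Agent.FT Cfsg.Agent.Tr Cfsg.Agent.ST Cfsg.Agent.ST4 Cfsg.Agent.Ess Matrix
open scoped MatrixGroups

section Pair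

variable {Γ W : Type*} [Group Γ] [CommGroup W] [Finite W] {ψ : Γ →* MulAut W}

theorem codim_pair (hW : ∀ w : W, w * w = 1) {t k : Γ} {r n : ℕ} (hr : r.Prime) (h2 : r ≠ 2)
    (hk : orderOf k = r) (ht : t * t = 1) (hi : t * k * t⁻¹ = k⁻¹) (h1 : ψ k ≠ 1)
    (hn : ∀ j, 0 < j → 4 ^ j ≡ 1 [MOD r] → n ≤ j) : 2 ^ n ≤ (fixA ψ (zpowers t)).index := by
  haveI := Fact.mk hr
  have ho : Odd (orderOf k) := hk ▸ hr.odd_of_ne_two h2
  have st : ∀ g, g ∈ stab ψ (⊤ : Subgroup W) := mem_stab_inva inva_top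
  set N := (⊤ : Subgroup W).map (cm ψ k)
  obtain ⟨-, e⟩ := free hW (N := N) ho hi (fun n _ => by rw [← act_mul, ht, act_one])
    (mem_stab_of fun n => act_mem_map_cm hi (st t) (st k)) (stab_map_cm hW (st k))
    fun _ => eq_one_of_fix hW ho
  obtain ⟨j, hj⟩ := ((isP_of_sq hW).to_subgroup (N ⊓ fixA ψ (zpowers t))).exists_card_eq
  have e1 := ri_mul_card (fixA ψ (zpowers t)) N
  rw [e, hj, pow_two] at e1
  have e2 := Nat.eq_of_mul_eq_mul_right (by positivity) e1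
  have e3 : Nat.card N ≡ 1 [MOD r] := by
    letI : MulAction (zpowers k) W := MulAction.compHom W (ψ.comp (zpowers k).subtype)
    have a := (isPGroup_zpowers_of_orderOf_eq hk).card_modEq_card_fixedPoints W
    have b : Nat.card (MulAction.fixedPoints (zpowers k) W) = Nat.card (fixA ψ (zpowers k)) :=
      Nat.card_congr (Equiv.subtypeEquivRight fun w =>
        ⟨fun h y hy => h ⟨y, hy⟩, fun h y => h y.1 y.2⟩)
    rw [b, ← (fixA ψ (zpowers k)).card_mul_index, index_fix] at a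
    obtain ⟨i, hi⟩ := ((isP_of_sq hW).to_subgroup (fixA ψ (zpowers k))).exists_card_eq
    rw [hi] at a
    exact Nat.ModEq.cancel_left_of_coprime
      (Nat.Coprime.pow_right i ((Nat.coprime_primes hr Nat.prime_two).2 h2)) (by rwa [mul_one])
  have j0 : 0 < j := Nat.pos_of_ne_zero fun j0 => h1 (MulEquiv.ext fun w => by
    rw [hj, j0] at e
    have : cm ψ k w ∈ N := ⟨w, trivial, rfl⟩
    rw [card_eq_one.1 e, mem_bot] at this
    exact cm_eq_one.1 this)
  refine (Nat.pow_le_pow_right two_pos (hn j j0 ?_)).trans ?_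
  · rwa [e, hj, ← pow_mul, mul_comm, pow_mul] at e3
  · rw [← e2, ← relIndex_top_right]
    exact relIndex_le_of_le_right le_top (by rw [relIndex_top_right]; exact index_ne_zero_of_finite)

end Pair

section SL

variable {K : Type*} [Field K] [CharP K 2]

theorem det2 (g : SL(2, K)) : g 0 0 * g 1 1 + g 0 1 * g 1 0 = 1 := by
  have := g.det_coe
  rw [det_fin_two] at this
  linear_combination this + g 0 1 * g 1 0 * CharTwo.two_eq_zero (R := K)

theorem sq_of_tr {g : SL(2, K)} (h : g 0 0 + g 1 1 = 0) : g * g = 1 := by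
  have d := det2 g
  have t := CharTwo.two_eq_zero (R := K)
  ext i j; fin_cases i <;> fin_cases j <;> simp [mul_apply, Fin.sum_univ_two]
  · linear_combination d + g 0 0 * h - g 0 0 * g 1 1 * t
  · linear_combination g 0 1 * h
  · linear_combination g 1 0 * h
  · linear_combination d + g 1 1 * h - g 0 0 * g 1 1 * t

theorem tr_sq (g : SL(2, K)) : (g * g) 0 0 + (g * g) 1 1 = (g 0 0 + g 1 1) ^ 2 := by
  have t := CharTwo.two_eq_zero (R := K)
  simp [mul_apply, Fin.sum_univ_two]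
  linear_combination (g 0 1 * g 1 0 - g 0 0 * g 1 1) * t

theorem sq_of_pow {g : SL(2, K)} {k : ℕ} (h : g ^ 2 ^ k = 1) : g * g = 1 := by
  refine sq_of_tr ?_
  induction k generalizing g with
  | zero => rw [pow_zero, pow_one] at h; rw [h]; simpa using CharTwo.add_self_eq_zero (1 : K)
  | succ k ih =>
    rw [pow_succ', pow_mul, pow_two] at h
    exact pow_eq_zero_iff two_ne_zero |>.1 (tr_sq g ▸ ih h)

/-- The Weyl element. -/
def ww (K : Type*) [Field K] [CharP K 2] : SL(2, K) :=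
  ⟨!![0, 1; 1, 0], by simp [det_fin_two, CharTwo.neg_eq]⟩

@[simp] theorem coe_ww : (ww K : Matrix (Fin 2) (Fin 2) K) = !![0, 1; 1, 0] := rfl

theorem exists_low {g : SL(2, K)} (h : g 0 0 + g 1 1 ≠ 0) :
    ∃ x : SL(2, K), (x * g * x⁻¹) 1 0 ≠ 0 := by
  by_cases h1 : g 1 0 = 0
  · by_cases h2 : g 0 1 = 0
    · refine ⟨E21 1, ?_⟩
      simpa [SpecialLinearGroup.coe_inv, adjugate_fin_two, mul_apply, Fin.sum_univ_two, h1, h2,
        vecMul, dotProduct, CharTwo.neg_eq] using h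
    · refine ⟨ww K, ?_⟩
      simpa [SpecialLinearGroup.coe_inv, adjugate_fin_two, mul_apply, Fin.sum_univ_two, h1,
        vecMul, dotProduct, CharTwo.neg_eq] using h2
  · exact ⟨1, by simpa using h1⟩

theorem E12_sq (x : K) : E12 x * E12 x = 1 := sq_of_tr (by simpa using CharTwo.add_self_eq_zero 1)

theorem E12_inverts {g : SL(2, K)} (h : g 1 0 ≠ 0) :
    E12 ((g 0 0 + g 1 1) / g 1 0) * g * (E12 ((g 0 0 + g 1 1) / g 1 0))⁻¹ = g⁻¹ := by
  rw [inv_eq_of_mul_eq_one_right (E12_sq _), eq_inv_iff_mul_eq_one, mul_assoc]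
  refine sq_of_tr ?_
  simp [mul_apply, Fin.sum_univ_two, vecMul, dotProduct]
  field_simp
  linear_combination (g 0 0 + g 1 1) * CharTwo.two_eq_zero (R := K)

theorem conj_E12 {g : SL(2, K)} (h : g 1 0 ≠ 0) (y : K) :
    E12 (g 0 0 / g 1 0) * g * E12 (g 1 1 / g 1 0) * E12 (y / g 1 0 ^ 2) =
      E21 y * (E12 (g 0 0 / g 1 0) * g * E12 (g 1 1 / g 1 0)) := by
  have d := det2 g
  have t := CharTwo.two_eq_zero (R := K)
  ext i j; fin_cases i <;> fin_cases j <;> simp [mul_apply, Fin.sum_univ_two, vecMul, dotProduct] <;>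
    field_simp
  · exact Or.inl (by linear_combination g 0 0 * t)
  · exact Or.inr (by linear_combination g 0 0 * t)
  · linear_combination -y * d - y * g 0 0 * g 1 1 * t

theorem odd_ker {Y : Type*} [Group Y] {ψ : SL(2, K) →* Y} {g : SL(2, K)} (h : g 1 0 ≠ 0)
    (hg : ψ g = 1) {x : SL(2, K)} (hx : Odd (orderOf x)) : ψ x = 1 := by
  let H : Subgroup SL(2, K) :=
    { carrier := {x | ∃ y, ψ x = ψ (E12 y)}
      one_mem' := ⟨0 + 0, by rw [← E12_mul, E12_sq]⟩
      mul_mem' := fun ⟨y, hy⟩ ⟨z, hz⟩ => ⟨y + z, by rw [map_mul, hy, hz, ← map_mul, E12_mul]⟩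
      inv_mem' := fun ⟨y, hy⟩ => ⟨y, by
        rw [map_inv, hy, ← map_inv, inv_eq_of_mul_eq_one_right (E12_sq _)]⟩ }
  have : H = ⊤ := eq_top_of_elem_mem (fun x => ⟨x, rfl⟩) fun y => ⟨y / g 1 0 ^ 2, by
    have := congrArg ψ (conj_E12 h y)
    simp only [map_mul, hg, mul_one] at this
    rw [← map_mul, ← map_mul, E12_mul, E12_mul, add_comm, ← E12_mul, map_mul] at this
    exact (mul_right_cancel this).symm⟩
  obtain ⟨y, hy⟩ : x ∈ H := this ▸ mem_top x
  have h1 : ψ x ^ 2 = 1 := by rw [pow_two, hy, ← map_mul, E12_sq, map_one]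
  have h2 : ψ x ^ orderOf x = 1 := by rw [← map_pow, pow_orderOf_eq_one, map_one]
  rw [← pow_one (ψ x), ← (Nat.coprime_two_left.2 hx).gcd_eq_one]
  exact pow_gcd_eq_one.2 ⟨h1, h2⟩

theorem tr_of_sq {t : SL(2, K)} (h : t * t = 1) : t 1 1 = t 0 0 := by
  have := tr_sq t
  rw [h] at this
  have e : (t 0 0 + t 1 1) ^ 2 = 0 := by
    rw [← this]; simpa using CharTwo.add_self_eq_zero (1 : K)
  exact (CharTwo.add_eq_zero.1 (pow_eq_zero_iff two_ne_zero |>.1 e)).symm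

theorem exists_conj_E12 {t : SL(2, K)} (h : t * t = 1) :
    ∃ (x : SL(2, K)) (y : K), x * t = E12 y * x := by
  have d := det2 t
  have e := tr_of_sq h
  have c := CharTwo.two_eq_zero (R := K)
  rw [e] at d
  by_cases h1 : t 1 0 = 0
  · have : t 0 0 = 1 := by
      have : (t 0 0 + 1) ^ 2 = 0 := by linear_combination d - t 0 1 * h1 + (t 0 0 + 1) * c
      exact CharTwo.add_eq_zero.1 (pow_eq_zero_iff two_ne_zero |>.1 this)
    refine ⟨1, t 0 1, ?_⟩
    ext i j; fin_cases i <;> fin_cases j <;> simp [h1, e, this]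
  · refine ⟨ww K * E12 ((t 0 0 + 1) / t 1 0), t 1 0, ?_⟩
    ext i j; fin_cases i <;> fin_cases j <;>
      simp [mul_apply, Fin.sum_univ_two, vecMul, dotProduct, e] <;> field_simp
    · linear_combination -c
    · linear_combination t 0 0 * c
    · linear_combination d

variable [Fintype K]

theorem exists_conj_inv {t : SL(2, K)} (h : t * t = 1) (h1 : t ≠ 1) {y : K} (hy : y ≠ 0) :
    ∃ x : SL(2, K), t = x * E12 y * x⁻¹ := by
  obtain ⟨x, z, e⟩ := exists_conj_E12 h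
  have hz : z ≠ 0 := by
    rintro rfl
    refine h1 (mul_left_cancel (a := x) (e.trans ?_))
    rw [← add_zero (0 : K), ← E12_mul, E12_sq, one_mul, mul_one]
  obtain ⟨l, hl⟩ := (frobeniusEquiv K 2).surjective (z / y)
  rw [frobeniusEquiv_apply, frobenius_def] at hl
  have l0 : l ≠ 0 := by rintro rfl; exact div_ne_zero hz hy (by simpa using hl.symm)
  obtain ⟨d, hd⟩ : ∃ d : SL(2, K), (d : Matrix (Fin 2) (Fin 2) K) = !![l, 0; 0, l⁻¹] :=
    ⟨⟨_, by simp [det_fin_two, l0]⟩, rfl⟩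
  have : E12 z * d = d * E12 y := by
    ext i j; fin_cases i <;> fin_cases j <;> simp [hd, mul_apply, Fin.sum_univ_two]
    rw [eq_div_iff hy] at hl
    field_simp
    linear_combination -hl
  exact ⟨x⁻¹ * d, by rw [mul_assoc x⁻¹, ← this, eq_inv_mul_of_mul_eq e]; group⟩

theorem exists_prime (K : Type*) [Field K] [CharP K 2] [Fintype K] : ∃ r n, r.Prime ∧ r ≠ 2 ∧
    Fintype.card K = 2 ^ n ∧ r ∣ Nat.card SL(2, K) ∧ ∀ j, 0 < j → 4 ^ j ≡ 1 [MOD r] → n ≤ j := by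
  obtain ⟨n, -, hn⟩ := FiniteField.card K 2
  have n0 := n.pos
  have key : ∃ r, r.Prime ∧ orderOf ((2 : ℕ) : ZMod r) ∣ 2 * n ∧ 1 < orderOf ((2 : ℕ) : ZMod r) ∧
      ∀ j, orderOf ((2 : ℕ) : ZMod r) ∣ 2 * j → (n : ℕ) ∣ j := by
    by_cases h : (n : ℕ) = 3
    · obtain ⟨r, h1, h2⟩ := Trans.exists_ppd_two (n := 3) (by omega) (by omega)
      exact ⟨r, h1, by rw [h2, h]; decide, by omega, fun j hj => by rw [h2] at hj; rw [h]; omega⟩
    · obtain ⟨r, h1, h2⟩ := Trans.exists_ppd_two (n := 2 * n) (by omega) (by omega)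
      exact ⟨r, h1, h2.dvd, by omega, fun j hj =>
        Nat.dvd_of_mul_dvd_mul_left two_pos (h2 ▸ hj)⟩
  obtain ⟨r, h1, h2, h3, h4⟩ := key
  refine ⟨r, n, h1, ?_, hn, ?_, fun j j0 hj => Nat.le_of_dvd j0 (h4 j ?_)⟩
  · rintro rfl
    rw [ZMod.natCast_self, orderOf_zero] at h3
    omega
  · rw [L2.card_SL, mul_assoc, mul_comm (_ - 1), ← Nat.sq_sub_sq, hn, ← pow_mul, one_pow]
    refine Dvd.dvd.mul_left ((Nat.modEq_iff_dvd' (Nat.one_le_two_pow)).1 ?_) _
    rw [← ZMod.natCast_eq_natCast_iff, Nat.cast_pow, Nat.cast_one, mul_comm,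
      orderOf_dvd_iff_pow_eq_one.1 h2]
  · rw [orderOf_dvd_iff_pow_eq_one, pow_mul, ← Nat.cast_pow, ← Nat.cast_pow,
      ← Nat.cast_one (R := ZMod r), ZMod.natCast_eq_natCast_iff]
    exact hj

variable {W : Type*} [CommGroup W] [Finite W]

/-- Involutions of `SL₂(q)` have codimension at least `q` on nontrivial modules. -/
theorem codim_sl (hW : ∀ w : W, w * w = 1) {ψ : SL(2, K) →* MulAut W} {x : SL(2, K)}
    (hx : Odd (orderOf x)) (hx' : ψ x ≠ 1) {t : SL(2, K)} (h : t * t = 1) (h1 : t ≠ 1) :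
    Fintype.card K ≤ (fixA ψ (zpowers t)).index := by
  obtain ⟨r, n, hr, r2, hn, hd, hj⟩ := exists_prime K
  haveI := Fact.mk hr
  obtain ⟨g, hg⟩ := exists_prime_orderOf_dvd_card' r hd
  have tr : ∀ g : SL(2, K), orderOf g = r → g 0 0 + g 1 1 ≠ 0 := fun g hg e =>
    r2 ((Nat.prime_dvd_prime_iff_eq hr Nat.prime_two).1 (hg ▸ orderOf_dvd_of_pow_eq_one
      ((pow_two g).trans (sq_of_tr e))))
  obtain ⟨y, hy⟩ := exists_low (tr g hg)
  rw [← orderOf_conj y] at hg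
  set k := y * g * y⁻¹
  obtain ⟨z, rfl⟩ := exists_conj_inv h h1 (div_ne_zero (tr k hg) hy)
  rw [hn]
  refine codim_pair hW (k := z * k * z⁻¹) hr r2 (by rw [orderOf_conj, hg]) h ?_ (fun e => hx'
    (odd_ker hy ?_ hx)) hj
  · rw [show (z * k * z⁻¹)⁻¹ = z * k⁻¹ * z⁻¹ by group, ← E12_inverts hy]; group
  · rwa [map_mul, map_mul, map_inv, mul_inv_eq_one, mul_eq_left] at e

theorem codim {Γ : Type*} [Group Γ] (hW : ∀ w : W, w * w = 1) {φ : Γ →* SL(2, K)}
    (hφ : Function.Surjective φ) {ψ : Γ →* MulAut W} (hk : φ.ker ≤ ψ.ker) {x : Γ}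
    (hx : Odd (orderOf x)) (hx' : ψ x ≠ 1) {t : Γ} (h : φ t * φ t = 1) (h1 : φ t ≠ 1) :
    Fintype.card K ≤ (fixA ψ (zpowers t)).index := by
  let ψ' := φ.liftOfRightInverse _ (Function.rightInverse_surjInv hφ) ⟨ψ, hk⟩
  have e : ∀ g, ψ' (φ g) = ψ g := φ.liftOfRightInverse_comp_apply _ _ _
  have := codim_sl hW (ψ := ψ') (x := φ x) (hx.of_dvd_nat (orderOf_map_dvd φ x)) (e x ▸ hx') h h1
  rwa [show fixA ψ' (zpowers (φ t)) = fixA ψ (zpowers t) from
    Subgroup.ext fun w => by rw [mem_fix_zp, mem_fix_zp, e]] at this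

end SL

end Cfsg.Agent.PU
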