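import Cfsg.Agent.Lib.MP.Pu4

/-!
Pushing up, part 5: groups with quotient `SL₂(2ⁿ)` satisfy `PH`.
-/

set_option autoImplicit false
set_option linter.style.haveILetI false

namespace Cfsg.Agent.PU

open Subgroup Cfsg.Agent.FT Cfsg.Agent.Tr Cfsg.Agent.ST Cfsg.Agent.ST4 Cfsg.Agent.Ess Matrix
open scoped MatrixGroups

variable {X : Type*} [Group X] {G Q T : Subgroup X} {K : Type*} [Field K] [CharP K 2] [Fintype K]

instance omComm (Q : Subgroup X) : CommGroup (Om Q) :=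
  { (inferInstance : Group (Om Q)) with mul_comm := fun a b => Subtype.ext (a.2.2.2 b b.2.1) }

theorem om_sq (w : Om Q) : w * w = 1 := Subtype.ext w.2.2.1

/-- The conjugation action on `Ω₁ Z(Q)`. -/
def omAct (h : G ≤ normalizer (Q : Set X)) : G →* MulAut (Om Q) :=
  (Om Q).normalizerMonoidHom.comp (inclusion fun g hg => by
    rw [← cj_eq_iff, ← Om_cj, cj_eq_of_mem_normalizer (h hg)])

theorem omAct_apply (h : G ≤ normalizer (Q : Set X)) (g : G) (w : Om Q) :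
    (omAct h g w : X) = g * w * (g : X)⁻¹ := rfl

theorem omAct_eq (h : G ≤ normalizer (Q : Set X)) {g : G} {w : Om Q} :
    omAct h g w = w ↔ Commute (w : X) g := by
  rw [Subtype.ext_iff, omAct_apply, mul_inv_eq_iff_eq_mul]
  exact eq_comm

theorem card_le_of_two {U : Subgroup SL(2, K)} (hU : IsPGroup 2 U) :
    Nat.card U ≤ Fintype.card K := by
  obtain ⟨n, -, hn⟩ := FiniteField.card K 2
  obtain ⟨k, hk⟩ := hU.exists_card_eq
  have h := card_subgroup_dvd_card U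
  have e : Even (Fintype.card K) := hn ▸ (Nat.even_pow.2 ⟨even_two, n.ne_zero⟩)
  have := Fintype.card_pos (α := K)
  rw [L2.card_SL, hk] at h
  rw [hk]
  exact Nat.le_of_dvd this ((Nat.Coprime.pow_left k (Nat.coprime_two_left.2 (Nat.Even.sub_odd this e
    odd_one))).dvd_of_dvd_mul_right ((Nat.Coprime.pow_left k (Nat.coprime_two_left.2
      e.add_one)).dvd_of_dvd_mul_right h))

/-- The upper unitriangular matrices. -/
def uHom (K : Type*) [Field K] [CharP K 2] : Multiplicative K →* SL(2, K) :=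
  MonoidHom.mk' (fun x => E12 x.toAdd) fun _ _ => (E12_mul _ _).symm

theorem syl_uHom : SylowIn 2 (uHom K).range ⊤ := by
  have hp : IsPGroup 2 (uHom K).range := isPGroup_iff_forall_mem.2 <| by
    rintro _ ⟨x, rfl⟩
    exact ⟨1, (pow_two _).trans (E12_sq _)⟩
  refine sylowIn_of_maximal hp le_top fun U hU h _ => (eq_of_le_of_card_ge h ?_).symm
  have : Function.Injective (uHom K) := fun x y e => by
    simpa [uHom] using congrArg (fun M : SL(2, K) => M 0 1) e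
  rw [← Nat.card_congr (MonoidHom.ofInjective this).toEquiv]
  exact (card_le_of_two hU).trans (Fintype.card_eq_nat_card.trans (Nat.card_congr
    Multiplicative.ofAdd)).le

theorem sup_uHom : (uHom K).range ⊔ cj (ww K) (uHom K).range = ⊤ :=
  eq_top_of_elem_mem (fun x => mem_sup_left ⟨.ofAdd x, rfl⟩) fun x => mem_sup_right (mem_cj'.2
    ⟨_, ⟨.ofAdd x, rfl⟩, by
      rw [mul_inv_eq_iff_eq_mul]
      ext i j; fin_cases i <;> fin_cases j <;>
        simp [uHom, mul_apply, Fin.sum_univ_two, vecMul, dotProduct]⟩)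

variable [Finite X] {φ : G →* SL(2, K)} (hφ : Function.Surjective φ)
include hφ

theorem syl_img {P : Subgroup X} (hP : SylowIn 2 P G) : SylowIn 2 ((P.subgroupOf G).map φ) ⊤ := by
  have := hP.subgroupOf_top.map φ
  rwa [← MonoidHom.range_eq_map, MonoidHom.range_eq_top.2 hφ] at this

theorem gen_of_sl2 (hQ : IsPGroup 2 Q) (le : Q ≤ G) (nrm : G ≤ normalizer (Q : Set X))
    (hfr : ∀ H ≤ G, Q ≤ H → (H.subgroupOf G).map φ = ⊤ → H = G) (P : Subgroup X)
    (hP : SylowIn 2 P G) : ∃ P', SylowIn 2 P' G ∧ P ⊔ P' = G := by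
  obtain ⟨x, -, e⟩ := (syl_img hφ hP).exists_cj_eq syl_uHom
  obtain ⟨y, hy⟩ := hφ (x * ww K * x⁻¹)
  have hP' := hP.cj_of_mem y.2
  refine ⟨_, hP', hfr _ (sup_le hP.le hP'.le) ((hP.le_of_le_normalizer hQ le
    (hP.le.trans nrm)).trans le_sup_left) (top_le_iff.1 ?_)⟩
  rw [← cj_top x, ← sup_uHom, cj_sup, e]
  refine sup_le (map_mono (subgroupOf_mono _ le_sup_left)) fun s hs => ?_
  rw [← cj_mul, show x * ww K = φ y * x by rw [hy]; group, cj_mul, e] at hs
  obtain ⟨_, ⟨a, ha, rfl⟩, rfl⟩ := mem_cj'.1 hs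
  exact ⟨y * a * y⁻¹, mem_sup_right (conj_mem_cj.2 ha), by simp⟩

theorem ph_of_sl2 (le : Q ≤ G) (nrm : G ≤ normalizer (Q : Set X)) (pg : IsPGroup 2 Q)
    (cc : ∀ g ∈ G, (∀ y ∈ Q, Commute g y) → g ∈ Q)
    (gen : ∀ P, SylowIn 2 P G → ∃ P', SylowIn 2 P' G ∧ P ⊔ P' = G)
    (hk : ∀ g : G, φ g = 1 → ∀ z ∈ Om Q, Commute z g) (hQ : ∀ g : G, (g : X) ∈ Q → φ g = 1)
    (hP : ∀ P, SylowIn 2 P G → ∀ g : G, (g : X) ∈ P → φ g = 1 → (g : X) ∈ Q)
    (hodd : ∃ g ∈ G, Odd (orderOf g) ∧ ∃ z ∈ Om Q, ¬ Commute z g) : PH G Q := by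
  obtain ⟨x, hx, ho, z, hz, hxz⟩ := hodd
  rw [← orderOf_mk x hx] at ho
  have hx' : omAct nrm ⟨x, hx⟩ ≠ 1 := fun e => hxz ((omAct_eq nrm (g := ⟨x, hx⟩)
    (w := ⟨z, hz⟩)).1 (by rw [e]; rfl))
  have ker : φ.ker ≤ (omAct nrm).ker := fun g hg =>
    MulEquiv.ext fun w => (omAct_eq nrm).2 (hk g hg w w.2)
  have sq : ∀ P, SylowIn 2 P G → ∀ t : G, (t : X) ∈ P → φ t * φ t = 1 := fun P h t ht => by
    obtain ⟨k, e⟩ := isPGroup_iff_forall_mem.1 (syl_img hφ h).isPGroup _ ⟨t, ht, rfl⟩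
    exact sq_of_pow e
  have c1 : ∀ P, SylowIn 2 P G → ∀ t : G, (t : X) ∈ P → (t : X) ∉ Q →
      Fintype.card K ≤ (fixA (omAct nrm) (zpowers t)).index := fun P h t ht ht' =>
    codim om_sq hφ ker ho hx' (sq P h t ht) (mt (hP P h t ht) ht')
  refine ⟨le, nrm, pg, cc, gen, fun P h t ht hc => by_contra fun ht' => ?_,
    fun P h A hA hAQ _ _ hr => ?_⟩
  · have := c1 P h ⟨t, h.le ht⟩ ht ht'
    rw [(eq_top_iff' _).2 fun w => mem_fix_zp.2 ((omAct_eq nrm).2 (hc w w.2)), index_top] at this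
    exact absurd this Fintype.one_lt_card.not_ge
  have lQ := h.le_of_le_normalizer pg le (h.le.trans nrm)
  obtain ⟨t, ht, ht'⟩ := SetLike.not_le_iff_exists.1 hAQ
  have fin : ∀ (A B : Subgroup X), A.relIndex B ≠ 0 := fun _ _ => index_ne_zero_of_finite
  have r1 : Q.relIndex P ≤ Fintype.card K := by
    refine le_trans ?_ (card_le_of_two (syl_img hφ h).isPGroup)
    rw [← relIndex_ker, ← relIndex_subgroupOf h.le, ← inf_relIndex_right,
      ← inf_relIndex_right φ.ker]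
    exact (congrArg (relIndex · _) (Subgroup.ext fun g => and_congr_left fun hg =>
      ⟨hQ g, hP P h g hg⟩)).le
  have r2 : Fintype.card K ≤ (centralizer (A : Set X)).relIndex (Om Q) :=
    (c1 P h ⟨t, h.le (hA ht)⟩ (hA ht) ht').trans (Nat.le_of_dvd (Nat.pos_of_ne_zero (fin _ _))
      (index_dvd_of_le fun w hw => mem_fix_zp.2 ((omAct_eq nrm).2 (hw t ht).symm)))
  have r3 : Q.relIndex A ≤ Q.relIndex P := relIndex_le_of_le_right hA (fin _ _)
  have e : A ⊔ Q = P := by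
    refine eq_of_le_of_card_ge (sup_le hA lQ) ?_
    rw [← card_mul_relIndex lQ, ← card_mul_relIndex (le_sup_right : Q ≤ A ⊔ Q),
      ri_sup (hA.trans (h.le.trans nrm))]
    exact Nat.mul_le_mul_left _ (by omega)
  refine ⟨e, by omega, fun s hs hs' w hw hc => ?_⟩
  have hC : Inva (omAct nrm) (fixA (omAct nrm) ⊤) := inva_fixA ⊤
  have c2 := codim (sq_quot om_sq _) hφ (ψ := quotAut hC) (fun g hg => MulEquiv.ext fun q =>
    QuotientGroup.induction_on q fun w => by rw [quotAut_mk, ker hg]; rfl) ho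
    (fun e => hx' (eq_one_of_sub_quot hC ((isP_of_sq om_sq).to_subgroup _) ho
      ((subAut_eq_one hC).2 fun u hu => hu _ trivial) e)) (sq P h ⟨s, h.le hs⟩ hs)
    (mt (hP P h ⟨s, h.le hs⟩ hs) hs')
  rw [← index_comap_of_surjective _ (QuotientGroup.mk'_surjective _)] at c2
  have key : ∀ w ∈ Om Q, w ∈ centralizer (A : Set X) → ∀ s ∈ P, Commute w s :=
    fun w hw hc s hs => by
      obtain ⟨a, ha, c, hc', rfl⟩ :=
        (mem_sup_of_le_normalizer (hA.trans (h.le.trans nrm))).1 (e ▸ hs)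
      exact (show Commute w a from (hc a ha).symm).mul_right (hw.2.2 c hc')
  have l : (centralizer (A : Set X)).subgroupOf (Om Q) ≤ (fixA (quotAut hC)
      (zpowers ⟨s, h.le hs⟩)).comap (QuotientGroup.mk' _) := fun w hw => mem_fix_zp.2 (by
    rw [QuotientGroup.mk'_apply, quotAut_mk, (omAct_eq nrm).2 (key w w.2 hw s hs)])
  have l' := eq_of_le_of_card_ge l (by
    have a := card_mul_index ((centralizer (A : Set X)).subgroupOf (Om Q))
    rw [← card_mul_index (comap (QuotientGroup.mk' _) (fixA (quotAut hC)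
      (zpowers ⟨s, h.le hs⟩)))] at a
    refine Nat.le_of_mul_le_mul_right (a.ge.trans' (Nat.mul_le_mul_left _ ?_))
      (Nat.pos_of_ne_zero (fin (centralizer (A : Set X)) (Om Q)))
    exact (hr.trans (r3.trans r1)).trans c2)
  refine key w hw (show (⟨w, hw⟩ : Om Q) ∈ (centralizer (A : Set X)).subgroupOf (Om Q) from
    l' ▸ mem_fix_zp.2 ?_)
  rw [QuotientGroup.mk'_apply, quotAut_mk, QuotientGroup.eq_iff_div_mem]
  exact fun g _ => (omAct_eq nrm).2 (by simpa [div_eq_mul_inv, omAct_apply] using hc g g.2)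

omit hφ in
theorem le_of_odd {C : Subgroup X} (hT : SylowIn 2 T G) (h1 : T ≤ C)
    (h2 : ∀ g ∈ G, Odd (orderOf g) → g ∈ C) : G ≤ C := by
  by_contra hc
  have h3 : (C ⊓ G).relIndex G ≠ 1 := fun e => hc ((relIndex_eq_one.1 e).trans inf_le_left)
  obtain ⟨p, hp, hd⟩ := Nat.exists_prime_and_dvd h3
  haveI := Fact.mk hp
  by_cases e : p = 2
  · exact hT.not_dvd_relIndex_of_le (le_inf h1 hT.le) inf_le_right (e ▸ hd)
  obtain ⟨P, hP⟩ := exists_sylowIn (p := p) G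
  refine hP.not_dvd_relIndex_of_le (le_inf (fun g hg => h2 g (hP.le hg) ?_) hP.le) inf_le_right hd
  obtain ⟨k, hk⟩ := isPGroup_iff_forall_mem.1 hP.isPGroup g hg
  exact ((hp.odd_of_ne_two e).pow).of_dvd_nat (orderOf_dvd_of_pow_eq_one hk)

omit hφ in
theorem exists_odd (hT : SylowIn 2 T G) (lQ : Q ≤ T) (hT1 : T ≠ ⊥)
    (cc : ∀ g ∈ G, (∀ y ∈ Q, Commute g y) → g ∈ Q) (h : G ≤ normalizer (Om T : Set X) → Om T = ⊥) :
    ∃ g ∈ G, Odd (orderOf g) ∧ ∃ z ∈ Om Q, ¬ Commute z g := by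
  by_contra hc
  simp only [not_exists, not_and, not_not] at hc
  have : Om T = ⊥ := h ((le_of_odd (C := centralizer (Om T : Set X)) hT
    (fun t ht z hz => hz.2.2 t ht) fun g hg ho z hz =>
    hc g hg ho z ⟨cc z (hT.le hz.1) fun y hy => hz.2.2 y (lQ hy), hz.2.1,
      fun y hy => hz.2.2 y (lQ hy)⟩).trans (centralizer_le_normalizer _))
  haveI := (nontrivial_iff_ne_bot T).2 hT1
  haveI := hT.isPGroup.center_nontrivial
  obtain ⟨z, hz⟩ := exists_prime_orderOf_dvd_card' (G := center T) 2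
    ((hT.isPGroup.to_subgroup _).card_eq_or_dvd.resolve_left Finite.one_lt_card.ne')
  have h2 : z * z = 1 := by rw [← pow_two, ← hz, pow_orderOf_eq_one]
  have : ((z : T) : X) ∈ Om T := ⟨z.1.2, congrArg (fun y : center T => ((y : T) : X)) h2,
    fun y hy => congrArg Subtype.val (mem_center_iff.1 z.2 ⟨y, hy⟩).symm⟩
  rw [‹Om T = ⊥›, mem_bot] at this
  rw [show z = 1 from Subtype.ext (Subtype.ext this), orderOf_one] at hz
  omega

/-- Pushing up for `G / Q ≅ SL₂(q)` modulo an odd Frattini factor centralizing `Ω₁ Z(Q)`. -/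
theorem pu_sl2 (hT : SylowIn 2 T G) (le : Q ≤ G) (nrm : G ≤ normalizer (Q : Set X))
    (pg : IsPGroup 2 Q) (cc : ∀ g ∈ G, (∀ y ∈ Q, Commute g y) → g ∈ Q)
    (hfr : ∀ H ≤ G, Q ≤ H → (H.subgroupOf G).map φ = ⊤ → H = G)
    (hk : ∀ g : G, φ g = 1 → ∀ z ∈ Om Q, Commute z g) (hQ : ∀ g : G, (g : X) ∈ Q → φ g = 1)
    (hP : ∀ g : G, (g : X) ∈ T → φ g = 1 → (g : X) ∈ Q) (𝒜 : Set (MulAut T))
    (hN : ∀ W ≤ T, G ≤ normalizer (W : Set X) →
      (∀ α ∈ 𝒜, ∀ w : T, (w : X) ∈ W → (α w : X) ∈ W) → W = ⊥) :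
    PH G Q ∧ Blk G Q T ∧ Q.relIndex T = Fintype.card K := by
  have lQ := hT.le_of_le_normalizer pg le (hT.le.trans nrm)
  have r : Q.relIndex T = Fintype.card K := by
    have : Function.Injective (uHom K) := fun x y e => by
      simpa [uHom] using congrArg (fun M : SL(2, K) => M 0 1) e
    rw [Fintype.card_eq_nat_card, Nat.card_congr Multiplicative.ofAdd,
      Nat.card_congr (MonoidHom.ofInjective this).toEquiv, syl_uHom.card_eq (syl_img hφ hT),
      ← relIndex_ker, ← relIndex_subgroupOf hT.le, ← inf_relIndex_right,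
      ← inf_relIndex_right φ.ker]
    exact congrArg (relIndex · _) (Subgroup.ext fun g => and_congr_left fun hg =>
      ⟨hQ g, hP g hg⟩)
  have hT1 : T ≠ ⊥ := by
    rintro rfl
    exact Fintype.one_lt_card.ne (relIndex_bot_right Q ▸ r)
  have h : PH G Q := ph_of_sl2 hφ le nrm pg cc (gen_of_sl2 hφ pg le nrm hfr) hk hQ
    (fun P h g hg e => ?_) (exists_odd hT lQ hT1 cc fun h => hN _ (Om_le _) h fun α _ w hw =>
      ⟨(α w).2, ?_, fun y hy => ?_⟩)
  · exact ⟨h, pu_aut h hT (fun e => hT1 (le_bot_iff.1 (e ▸ hT.le))) 𝒜 hN, r⟩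
  · obtain ⟨x, hx, rfl⟩ := h.exists_cj_eq hT
    rw [← cj_eq_of_mem_normalizer (nrm hx), mem_cj]
    exact hP ((⟨x, hx⟩ : G)⁻¹ * g * ⟨x, hx⟩) (mem_cj.1 hg) (by simp [e])
  · rw [← coe_mul, ← map_mul, show w * w = 1 from Subtype.ext hw.2.1, map_one, coe_one]
  · have : Commute w (α.symm ⟨y, hy⟩) := Subtype.ext (hw.2.2 _ (α.symm ⟨y, hy⟩).2)
    simpa using (this.map α).map T.subtype

end Cfsg.Agent.PU
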